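import Cfsg.Agent.H683.Ore.Types

/-!
# OreF(A9; 8): every element of `A_9` is a commutator `[a, b]` with `5 ∣ |a|` (and `7 ∣ |b|` for elements `≠ 1`)
-/

set_option autoImplicit false

namespace Cfsg.Agent.H683.Ore.A9

open Equiv Equiv.Perm

/-- permutations of nine points -/
abbrev P9 := Perm (Fin 9)

/-- the certificate for the cycle type `m` -/
def Ok (m : Multiset ℕ) : Prop := ∃ a b : P9, sign a = 1 ∧ sign b = 1 ∧ (a * b * a⁻¹ * b⁻¹).cycleType = m ∧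
   5 ∣ orderOf a ∧ 7 ∣ orderOf b

theorem dvd_of {p : ℕ} (hp : p.Prime) {a : P9} (k : ℕ) (h1 : (a ^ k) ^ p = 1) (h2 : a ^ k ≠ 1) : p ∣ orderOf a := by
  have : Fact p.Prime := ⟨hp⟩
  rw [← orderOf_eq_prime h1 h2]
  exact orderOf_pow_dvd k

theorem ok_of (a b : P9) (m : Multiset ℕ) (i j : ℕ) (h1 : sign a = 1 ∧ sign b = 1)
    (h2 : (a * b * a⁻¹ * b⁻¹).cycleType = m) (h3 : (a ^ i) ^ 5 = 1 ∧ a ^ i ≠ 1) (h4 : (b ^ j) ^ 7 = 1 ∧ b ^ j ≠ 1) :
    Ok m :=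
  ⟨a, b, h1.1, h1.2, h2, dvd_of (by norm_num) i h3.1 h3.2, dvd_of (by norm_num) j h4.1 h4.2⟩

def a1 : P9 := ⟨![7, 5, 0, 6, 8, 1, 3, 4, 2], ![2, 5, 8, 6, 7, 1, 3, 0, 4], by decide, by decide⟩

def b1 : P9 := ⟨![7, 2, 0, 3, 8, 1, 6, 4, 5], ![2, 5, 1, 3, 7, 8, 6, 0, 4], by decide, by decide⟩

theorem ok1 : Ok ([2, 2] : List ℕ) :=
  ok_of a1 b1 _ 2 1 (by decide +kernel) (by decide +kernel) (by decide +kernel) (by decide +kernel)

def a2 : P9 := ⟨![2, 8, 7, 5, 6, 0, 4, 3, 1], ![5, 8, 0, 7, 6, 3, 4, 2, 1], by decide, by decide⟩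

def b2 : P9 := ⟨![8, 1, 7, 5, 4, 0, 3, 6, 2], ![5, 1, 8, 6, 4, 3, 7, 2, 0], by decide, by decide⟩

theorem ok2 : Ok ([2, 2, 2, 2] : List ℕ) :=
  ok_of a2 b2 _ 2 1 (by decide +kernel) (by decide +kernel) (by decide +kernel) (by decide +kernel)

def a3 : P9 := ⟨![1, 0, 7, 4, 8, 6, 3, 2, 5], ![1, 0, 7, 6, 3, 8, 5, 2, 4], by decide, by decide⟩

def b3 : P9 := ⟨![3, 6, 2, 8, 5, 0, 4, 7, 1], ![5, 8, 2, 0, 6, 4, 1, 7, 3], by decide, by decide⟩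

theorem ok3 : Ok ([3] : List ℕ) :=
  ok_of a3 b3 _ 2 1 (by decide +kernel) (by decide +kernel) (by decide +kernel) (by decide +kernel)

def a4 : P9 := ⟨![7, 5, 4, 0, 1, 6, 2, 3, 8], ![3, 4, 6, 7, 2, 1, 5, 0, 8], by decide, by decide⟩

def b4 : P9 := ⟨![8, 5, 7, 3, 4, 6, 2, 0, 1], ![7, 8, 6, 3, 4, 1, 5, 2, 0], by decide, by decide⟩

theorem ok4 : Ok ([3, 2, 2] : List ℕ) :=
  ok_of a4 b4 _ 3 1 (by decide +kernel) (by decide +kernel) (by decide +kernel) (by decide +kernel)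

def a5 : P9 := ⟨![2, 0, 5, 1, 6, 3, 4, 8, 7], ![1, 3, 0, 5, 6, 2, 4, 8, 7], by decide, by decide⟩

def b5 : P9 := ⟨![0, 1, 4, 8, 7, 6, 2, 3, 5], ![0, 1, 6, 7, 2, 8, 5, 4, 3], by decide, by decide⟩

theorem ok5 : Ok ([3, 3] : List ℕ) :=
  ok_of a5 b5 _ 2 1 (by decide +kernel) (by decide +kernel) (by decide +kernel) (by decide +kernel)

def a6 : P9 := ⟨![0, 8, 7, 2, 6, 1, 3, 4, 5], ![0, 5, 3, 6, 7, 8, 4, 2, 1], by decide, by decide⟩

def b6 : P9 := ⟨![5, 1, 2, 4, 0, 7, 8, 6, 3], ![4, 1, 2, 8, 3, 0, 7, 5, 6], by decide, by decide⟩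

theorem ok6 : Ok ([3, 3, 3] : List ℕ) :=
  ok_of a6 b6 _ 3 1 (by decide +kernel) (by decide +kernel) (by decide +kernel) (by decide +kernel)

def a7 : P9 := ⟨![6, 1, 2, 4, 5, 0, 3, 7, 8], ![5, 1, 2, 6, 3, 4, 0, 7, 8], by decide, by decide⟩

def b7 : P9 := ⟨![5, 6, 2, 3, 1, 8, 0, 4, 7], ![6, 4, 2, 3, 7, 0, 1, 8, 5], by decide, by decide⟩

theorem ok7 : Ok ([4, 2] : List ℕ) :=
  ok_of a7 b7 _ 1 1 (by decide +kernel) (by decide +kernel) (by decide +kernel) (by decide +kernel)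

def a8 : P9 := ⟨![4, 7, 1, 3, 5, 6, 8, 2, 0], ![8, 2, 7, 3, 0, 4, 5, 1, 6], by decide, by decide⟩

def b8 : P9 := ⟨![5, 1, 7, 2, 4, 6, 3, 8, 0], ![8, 1, 3, 6, 4, 0, 5, 2, 7], by decide, by decide⟩

theorem ok8 : Ok ([4, 3, 2] : List ℕ) :=
  ok_of a8 b8 _ 3 1 (by decide +kernel) (by decide +kernel) (by decide +kernel) (by decide +kernel)

def a9 : P9 := ⟨![3, 2, 1, 8, 6, 7, 0, 5, 4], ![6, 2, 1, 0, 8, 7, 4, 5, 3], by decide, by decide⟩

def b9 : P9 := ⟨![2, 4, 6, 3, 0, 8, 5, 7, 1], ![4, 8, 0, 3, 1, 6, 2, 7, 5], by decide, by decide⟩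

theorem ok9 : Ok ([4, 4] : List ℕ) :=
  ok_of a9 b9 _ 2 1 (by decide +kernel) (by decide +kernel) (by decide +kernel) (by decide +kernel)

def a10 : P9 := ⟨![1, 7, 2, 8, 6, 4, 5, 3, 0], ![8, 0, 2, 7, 5, 6, 4, 1, 3], by decide, by decide⟩

def b10 : P9 := ⟨![6, 0, 2, 4, 1, 3, 7, 5, 8], ![1, 4, 2, 5, 3, 7, 0, 6, 8], by decide, by decide⟩

theorem ok10 : Ok ([5] : List ℕ) :=
  ok_of a10 b10 _ 3 1 (by decide +kernel) (by decide +kernel) (by decide +kernel) (by decide +kernel)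

def a11 : P9 := ⟨![4, 5, 1, 3, 8, 2, 7, 0, 6], ![7, 2, 5, 3, 0, 1, 8, 6, 4], by decide, by decide⟩

def b11 : P9 := ⟨![1, 8, 3, 4, 6, 5, 0, 7, 2], ![6, 0, 8, 2, 3, 5, 4, 7, 1], by decide, by decide⟩

theorem ok11 : Ok ([5, 2, 2] : List ℕ) :=
  ok_of a11 b11 _ 3 1 (by decide +kernel) (by decide +kernel) (by decide +kernel) (by decide +kernel)

def a12 : P9 := ⟨![2, 0, 4, 7, 6, 5, 1, 8, 3], ![1, 6, 0, 8, 2, 5, 4, 3, 7], by decide, by decide⟩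

def b12 : P9 := ⟨![8, 6, 4, 0, 1, 5, 3, 7, 2], ![3, 4, 8, 6, 2, 5, 1, 7, 0], by decide, by decide⟩

theorem ok12 : Ok ([5, 3] : List ℕ) :=
  ok_of a12 b12 _ 3 1 (by decide +kernel) (by decide +kernel) (by decide +kernel) (by decide +kernel)

def a13 : P9 := ⟨![7, 4, 2, 8, 6, 3, 0, 1, 5], ![6, 7, 2, 5, 1, 8, 4, 0, 3], by decide, by decide⟩

def b13 : P9 := ⟨![7, 2, 3, 6, 4, 0, 5, 1, 8], ![5, 7, 1, 2, 4, 6, 3, 0, 8], by decide, by decide⟩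

theorem ok13 : Ok ([6, 2] : List ℕ) :=
  ok_of a13 b13 _ 3 1 (by decide +kernel) (by decide +kernel) (by decide +kernel) (by decide +kernel)

def a14 : P9 := ⟨![5, 1, 6, 2, 8, 4, 3, 0, 7], ![7, 1, 3, 6, 5, 0, 2, 8, 4], by decide, by decide⟩

def b14 : P9 := ⟨![1, 2, 6, 5, 0, 4, 3, 7, 8], ![4, 0, 1, 6, 5, 3, 2, 7, 8], by decide, by decide⟩

theorem ok14 : Ok ([7] : List ℕ) :=
  ok_of a14 b14 _ 3 1 (by decide +kernel) (by decide +kernel) (by decide +kernel) (by decide +kernel)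

def a15 : P9 := ⟨![7, 6, 0, 4, 8, 5, 3, 2, 1], ![2, 8, 7, 6, 3, 5, 1, 0, 4], by decide, by decide⟩

def b15 : P9 := ⟨![8, 1, 6, 0, 2, 4, 3, 7, 5], ![3, 1, 4, 6, 5, 8, 2, 7, 0], by decide, by decide⟩

theorem ok15 : Ok ([9] : List ℕ) :=
  ok_of a15 b15 _ 3 1 (by decide +kernel) (by decide +kernel) (by decide +kernel) (by decide +kernel)

/-- the even cycle types -/
def types : List (List ℕ) := [[2, 2], [2, 2, 2, 2], [3], [3, 2, 2], [3, 3], [3, 3, 3], [4, 2], [4, 3, 2], [4, 4], [5], [5, 2, 2], [5, 3], [6, 2], [7], [9]]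

theorem cases_types : ∀ l ∈ gen 9 9 9, l ≠ [] → (l.sum + l.length) % 2 = 0 → l ∈ types := by decide +kernel

theorem ok_types : ∀ m ∈ types, Ok (m : Multiset ℕ) := by
  intro m hm
  simp only [types, List.mem_cons, List.not_mem_nil, or_false] at hm
  rcases hm with rfl | rfl | rfl | rfl | rfl | rfl | rfl | rfl | rfl | rfl | rfl | rfl | rfl | rfl | rfl
  · exact ok1
  · exact ok2
  · exact ok3
  · exact ok4
  · exact ok5
  · exact ok6
  · exact ok7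
  · exact ok8
  · exact ok9
  · exact ok10
  · exact ok11
  · exact ok12
  · exact ok13
  · exact ok14
  · exact ok15

theorem ok_all (σ : P9) (h1 : σ ≠ 1) (h2 : sign σ = 1) : Ok σ.cycleType := by
  obtain ⟨l, hl, h⟩ := cycleType_mem_gen σ
  rw [h]
  apply ok_types
  refine cases_types l hl ?_ ?_
  · rintro rfl
    exact h1 (cycleType_eq_zero.1 (by rw [h]; rfl))
  · rw [sign_of_cycleType, h] at h2
    simp only [Multiset.sum_coe, Multiset.coe_card] at h2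
    by_contra hodd
    have h3 : Odd (l.sum + l.length) := Nat.odd_iff.2 (by omega)
    rw [h3.neg_one_pow] at h2
    exact absurd h2 (by decide)

/-- **OreF(A9; 8)**, elements `≠ 1` -/
theorem oreF (l : alternatingGroup (Fin 9)) (hl : l ≠ 1) :
    ∃ a b : alternatingGroup (Fin 9), l = a * b * a⁻¹ * b⁻¹ ∧ 5 ∣ orderOf a ∧ 7 ∣ orderOf b := by
  obtain ⟨a, b, ha, hb, hm, h5, h7⟩ := ok_all l.1 (fun h => hl (Subtype.ext h)) (mem_alternatingGroup.1 l.2)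
  obtain ⟨c, hc⟩ := isConj_iff.1 (isConj_iff_cycleType_eq.2 hm)
  have ha' : sign (c * a * c⁻¹) = 1 := by
    rw [map_mul, map_mul, ha, mul_one, ← map_mul, mul_inv_cancel, map_one]
  have hb' : sign (c * b * c⁻¹) = 1 := by
    rw [map_mul, map_mul, hb, mul_one, ← map_mul, mul_inv_cancel, map_one]
  refine ⟨⟨c * a * c⁻¹, mem_alternatingGroup.2 ha'⟩, ⟨c * b * c⁻¹, mem_alternatingGroup.2 hb'⟩, ?_, ?_, ?_⟩
  · apply Subtype.ext
    change l.1 = (c * a * c⁻¹) * (c * b * c⁻¹) * (c * a * c⁻¹)⁻¹ * (c * b * c⁻¹)⁻¹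
    rw [← hc]
    group
  · rw [Subgroup.orderOf_mk]
    have : orderOf (c * a * c⁻¹) = orderOf a := by
      rw [← MulAut.conj_apply]
      exact orderOf_injective (MulAut.conj c).toMonoidHom (MulAut.conj c).injective a
    rwa [this]
  · rw [Subgroup.orderOf_mk]
    have : orderOf (c * b * c⁻¹) = orderOf b := by
      rw [← MulAut.conj_apply]
      exact orderOf_injective (MulAut.conj c).toMonoidHom (MulAut.conj c).injective b
    rwa [this]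

/-- **OreF(A9; 8)**, all elements, any model: `5` divides `|a|` (an element of order `5` is fixed point free on both
spin modules of dimension `8`) -/
theorem oreF_all {L : Type*} [Group L] (e : L ≃* alternatingGroup (Fin 9)) (l : L) :
    ∃ a b : L, l = a * b * a⁻¹ * b⁻¹ ∧ 5 ∣ orderOf a ∧ (l ≠ 1 → 7 ∣ orderOf b) := by
  by_cases hl : l = 1
  · obtain ⟨a, b, ha, hb, hm, h5, h7⟩ := ok1
    refine ⟨e.symm ⟨a, mem_alternatingGroup.2 ha⟩, 1, by rw [hl]; group, ?_, fun h => absurd hl h⟩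
    rw [MulEquiv.orderOf_eq, Subgroup.orderOf_mk]
    exact h5
  · obtain ⟨a, b, hab, h5, h7⟩ := oreF (e l) (fun h => hl (e.injective (by rw [h, map_one])))
    refine ⟨e.symm a, e.symm b, ?_, by rwa [MulEquiv.orderOf_eq], fun _ => by rwa [MulEquiv.orderOf_eq]⟩
    apply e.injective
    rw [hab]
    simp only [map_mul, map_inv, MulEquiv.apply_symm_apply]

end Cfsg.Agent.H683.Ore.A9
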