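import Mathlib

/-!
# Enumeration of the cycle types of permutations of `n` points (kernel friendly)
-/

set_option autoImplicit false

namespace Cfsg.Agent.H683.Ore

open Equiv Equiv.Perm

/-- non-increasing lists of length at most `k` with entries between `2` and `b` and sum at most `s` -/
def gen : ℕ → ℕ → ℕ → List (List ℕ)
  | 0, _, _ => [[]]
  | k + 1, s, b => [] :: (List.range (min s b + 1)).flatMap fun c =>
      if 2 ≤ c then (gen k (s - c) c).map (c :: ·) else []

theorem mem_gen : ∀ (k s b : ℕ) (l : List ℕ), l.length ≤ k → l.Pairwise (· ≥ ·) → (∀ x ∈ l, 2 ≤ x ∧ x ≤ b) →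
    l.sum ≤ s → l ∈ gen k s b := by
  intro k
  induction k with
  | zero =>
    intro s b l h1 _ _ _
    have : l = [] := List.length_eq_zero_iff.1 (by omega)
    rw [this]
    exact List.mem_cons_self
  | succ k ih =>
    intro s b l h1 h2 h3 h4
    rcases l with _ | ⟨c, l⟩
    · exact List.mem_cons_self
    · refine List.mem_cons_of_mem _ ?_
      rw [List.mem_flatMap]
      have hc := h3 c List.mem_cons_self
      rw [List.sum_cons] at h4
      refine ⟨c, List.mem_range.2 (by omega), ?_⟩
      rw [if_pos hc.1]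
      rw [List.mem_map]
      refine ⟨l, ih _ _ _ (by simpa using h1) (List.pairwise_cons.1 h2).2 (fun x hx => ⟨(h3 x (List.mem_cons_of_mem _ hx)).1, (List.pairwise_cons.1 h2).1 x hx⟩)
        (by omega), rfl⟩

/-- the cycle type of a permutation of `n` points is in the list `gen n n n` -/
theorem cycleType_mem_gen {n : ℕ} (σ : Perm (Fin n)) : ∃ l ∈ gen n n n, σ.cycleType = (l : Multiset ℕ) := by
  obtain ⟨l, hl⟩ : ∃ l : List ℕ, l = σ.cycleType.sort (· ≥ ·) := ⟨_, rfl⟩
  have h1 : (l : Multiset ℕ) = σ.cycleType := by rw [hl, Multiset.sort_eq]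
  have hs : l.sum ≤ n := by
    have h2 : σ.cycleType.sum ≤ n := by
      rw [sum_cycleType]
      exact (Finset.card_le_univ _).trans (by rw [Fintype.card_fin])
    rw [← h1] at h2
    simpa using h2
  have h2 : ∀ x ∈ l, 2 ≤ x := by
    intro x hx
    apply two_le_of_mem_cycleType (σ := σ)
    rw [← h1]
    exact hx
  refine ⟨l, mem_gen n n n l ?_ ?_ ?_ hs, h1.symm⟩
  · have h3 : l.length * 1 ≤ l.sum := by
      have := List.card_nsmul_le_sum l 1 (fun x hx => (by norm_num : 1 ≤ 2).trans (h2 x hx))
      simpa using this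
    omega
  · rw [hl]
    exact Multiset.pairwise_sort _ _
  · intro x hx
    exact ⟨h2 x hx, (List.le_sum_of_mem hx).trans hs⟩

end Cfsg.Agent.H683.Ore
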